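import Groth.Agent.L03.InterLen.Local
import Groth.Agent.L00.EquidimFlat
import Groth.Agent.L22.Ideal
import Groth.Agent.L22.CartierDecomp

/-!
On a Cohen-Macaulay surface a divisor restricts to an effective divisor on a curve meeting it in
finitely many points.
-/

set_option autoImplicit false
set_option maxSynthPendingDepth 3
set_option backward.isDefEq.respectTransparency.types false
set_option backward.isDefEq.respectTransparency false
set_option linter.style.haveILetI false
universe u

open CategoryTheory AlgebraicGeometry TopologicalSpace Topology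

namespace Groth.L03.InterLen

variable (k : Type u) [Field k] {X : Scheme.{u}} [X.Over (Spec (CommRingCat.of k))]
  [IsProper (X ↘ Spec (CommRingCat.of k))]

include k in
/-- The local rings at the closed points of an equidimensional surface have dimension two. -/
theorem ringKrullDim_stalk_closed (hdim : ∀ Z ∈ irreducibleComponents X, topologicalKrullDim ↥Z = (2 : ℕ))
    {x : X} (hx : IsClosed ({x} : Set X)) : ringKrullDim (X.presheaf.stalk x) = (2 : ℕ) := by
  obtain ⟨a, b, ha, hb, hab⟩ := Groth.L00.EquidimFlat.point_data' k (X ↘ Spec (CommRingCat.of k)) _ hdim x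
  obtain ⟨n, hn, hnt⟩ := Groth.L07.DimToolkit.exists_fdim_rtrdeg (X ↘ Spec (CommRingCat.of k)) x
  rw [Groth.L00.EquidimFlat.fdim_qX k, hx.closure_eq] at hn
  have h0 : topologicalKrullDim ({x} : Set X) = 0 := by
    refine le_antisymm (topologicalKrullDim_zero_of_discreteTopology _) ?_
    haveI : Nonempty (IrreducibleCloseds ({x} : Set X)) :=
      ⟨⟨closure {⟨x, rfl⟩}, isIrreducible_singleton.closure, isClosed_closure⟩⟩
    exact Order.krullDim_nonneg
  rw [h0] at hn
  obtain rfl : n = 0 := by exact_mod_cast hn.symm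
  obtain rfl : a = 0 := by exact_mod_cast ha.symm.trans hnt
  rw [hb]
  have h2 : (2 : ℕ) = 0 + b := by exact_mod_cast hab
  rw [h2, zero_add]

include k in
/-- The equation of the second divisor is regular modulo the equation of the first. -/
theorem mem_of_mul_mem (hdim : ∀ Z ∈ irreducibleComponents X, topologicalKrullDim ↥Z = (2 : ℕ))
    (hCM : ∀ x : X, LocCoh.IsCohenMacaulayLocalRing (X.presheaf.stalk x)) {IC ID : X.IdealSheafData}
    (hfin : ((IC ⊔ ID).support : Set X).Finite) {U : X.affineOpens} {f g : Γ(X, U.1)}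
    (hf : f ∈ nonZeroDivisors Γ(X, U.1)) (hIC : IC.ideal U = Ideal.span {f}) (hID : ID.ideal U = Ideal.span {g})
    {a : Γ(X, U.1)} (ha : g * a ∈ Ideal.span {f}) : a ∈ Ideal.span {f} := by
  haveI : JacobsonSpace X := LocallyOfFiniteType.jacobsonSpace (X ↘ Spec (CommRingCat.of k))
  have hmax : ∀ P : Ideal Γ(X, U.1), P.IsMaximal → ¬ (Ideal.span {f}).colon {a} ≤ P := by
    intro P hP hle
    let p : PrimeSpectrum Γ(X, U.1) := ⟨P, hP.isPrime⟩
    set x := U.2.fromSpec p
    have hxU : x ∈ U.1 := by
      have : x ∈ Set.range U.2.fromSpec := ⟨p, rfl⟩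
      rwa [U.2.range_fromSpec] at this
    have hpx : U.2.primeIdealOf ⟨x, hxU⟩ = p :=
      U.2.fromSpec.isOpenEmbedding.injective (U.2.fromSpec_primeIdealOf ⟨x, hxU⟩)
    letI : Algebra Γ(X, U.1) (X.presheaf.stalk x) := TopCat.Presheaf.algebra_section_stalk X.presheaf ⟨x, hxU⟩
    haveI : IsLocalization.AtPrime (X.presheaf.stalk x) (U.2.primeIdealOf ⟨x, hxU⟩).asIdeal :=
      U.2.isLocalization_stalk ⟨x, hxU⟩
    let θ := algebraMap Γ(X, U.1) (X.presheaf.stalk x)
    have hfP : f ∈ P := hle (Submodule.mem_colon_singleton.2 (Ideal.mul_mem_right a _ (Ideal.mem_span_singleton_self f)))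
    have hgP : g ∈ P := hle (Submodule.mem_colon_singleton.2 ha)
    have hxsup : x ∈ ((IC ⊔ ID).support : Set X) := by
      rw [Scheme.IdealSheafData.support_sup]
      constructor
      · rw [Groth.L22.CartierDecomp.mem_support_iff hxU, hpx, hIC]
        exact (Ideal.span_singleton_le_iff_mem _).2 hfP
      · rw [Groth.L22.CartierDecomp.mem_support_iff hxU, hpx, hID]
        exact (Ideal.span_singleton_le_iff_mem _).2 hgP
    have hxcl : IsClosed ({x} : Set X) := by
      refine isClosed_singleton_of_isLocallyClosed_singleton ?_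
      have h1 : IsClosed ({p} : Set (PrimeSpectrum Γ(X, U.1))) := (PrimeSpectrum.isClosed_singleton_iff_isMaximal p).2 hP
      have h2 := h1.isLocallyClosed.image U.2.fromSpec.isOpenEmbedding.isInducing
        U.2.fromSpec.isOpenEmbedding.isOpen_range.isLocallyClosed
      rwa [Set.image_singleton] at h2
    haveI := hCM x
    have hcm : (IsLocalRing.maximalIdeal (X.presheaf.stalk x)).comap θ = P :=
      (IsLocalization.AtPrime.under_maximalIdeal (X.presheaf.stalk x) (U.2.primeIdealOf ⟨x, hxU⟩).asIdeal).trans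
        (congrArg PrimeSpectrum.asIdeal hpx)
    have hprime : ∀ q : Ideal (X.presheaf.stalk x), q.IsPrime → θ f ∈ q → θ g ∈ q →
        q = IsLocalRing.maximalIdeal (X.presheaf.stalk x) := by
      intro q hq hfq hgq
      let q' : PrimeSpectrum Γ(X, U.1) := ⟨q.comap θ, Ideal.IsPrime.comap θ⟩
      set y := U.2.fromSpec q'
      have hyU : y ∈ U.1 := by
        have : y ∈ Set.range U.2.fromSpec := ⟨q', rfl⟩
        rwa [U.2.range_fromSpec] at this
      have hqy : U.2.primeIdealOf ⟨y, hyU⟩ = q' :=
        U.2.fromSpec.isOpenEmbedding.injective (U.2.fromSpec_primeIdealOf ⟨y, hyU⟩)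
      have hq'p : q'.asIdeal ≤ P := by
        have h1 : q ≤ IsLocalRing.maximalIdeal (X.presheaf.stalk x) := IsLocalRing.le_maximalIdeal hq.ne_top
        have h2 := Ideal.comap_mono (f := θ) h1
        rwa [hcm] at h2
      have hysup : y ∈ ((IC ⊔ ID).support : Set X) := by
        rw [Scheme.IdealSheafData.support_sup]
        constructor
        · rw [Groth.L22.CartierDecomp.mem_support_iff hyU, hqy, hIC]
          exact (Ideal.span_singleton_le_iff_mem _).2 hfq
        · rw [Groth.L22.CartierDecomp.mem_support_iff hyU, hqy, hID]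
          exact (Ideal.span_singleton_le_iff_mem _).2 hgq
      have hspec : y ⤳ x := ((PrimeSpectrum.le_iff_specializes q' p).1 hq'p).map U.2.fromSpec.continuous
      -- a finite closed set of a Jacobson space is discrete
      haveI := hfin.to_subtype
      haveI : JacobsonSpace ((IC ⊔ ID).support : Set X) :=
        JacobsonSpace.of_isClosedEmbedding (IC ⊔ ID).support.isClosed.isClosedEmbedding_subtypeVal
      have hyx : (⟨y, hysup⟩ : ((IC ⊔ ID).support : Set X)) = ⟨x, hxsup⟩ :=
        (((Topology.IsInducing.subtypeVal (t := ((IC ⊔ ID).support : Set X))).specializes_iff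
          (x := ⟨y, hysup⟩) (y := ⟨x, hxsup⟩)).1 hspec).eq
      have hyx' : y = x := by injection hyx
      have hq' : q' = p := U.2.fromSpec.isOpenEmbedding.injective hyx'
      refine le_antisymm (IsLocalRing.le_maximalIdeal hq.ne_top) ?_
      have h3 : q.comap θ = P := congrArg PrimeSpectrum.asIdeal hq'
      rw [← IsLocalization.map_comap (U.2.primeIdealOf ⟨x, hxU⟩).asIdeal.primeCompl (X.presheaf.stalk x) q,
        ← IsLocalization.map_comap (U.2.primeIdealOf ⟨x, hxU⟩).asIdeal.primeCompl (X.presheaf.stalk x)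
          (IsLocalRing.maximalIdeal (X.presheaf.stalk x))]
      refine Ideal.map_mono (le_of_eq ?_)
      exact hcm.trans h3.symm
    have hθf : θ f ∈ nonZeroDivisors (X.presheaf.stalk x) :=
      IsLocalization.map_nonZeroDivisors_le (U.2.primeIdealOf ⟨x, hxU⟩).asIdeal.primeCompl (X.presheaf.stalk x)
        ⟨f, hf, rfl⟩
    have hfm : θ f ∈ IsLocalRing.maximalIdeal (X.presheaf.stalk x) := by
      rw [← Ideal.mem_comap, hcm]
      exact hfP
    have hdvd : θ f ∣ θ g * θ a := by
      obtain ⟨c, hc⟩ := Ideal.mem_span_singleton'.1 ha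
      exact ⟨θ c, by rw [← map_mul, ← map_mul, ← hc, mul_comm]⟩
    have h4 := dvd_of_mul_dvd (ringKrullDim_stalk_closed k hdim hxcl) hθf hfm hprime hdvd
    rw [← Ideal.mem_span_singleton, ← Set.image_singleton, ← Ideal.map_span,
      IsLocalization.algebraMap_mem_map_algebraMap_iff (U.2.primeIdealOf ⟨x, hxU⟩).asIdeal.primeCompl] at h4
    obtain ⟨t, ht, hta⟩ := h4
    rw [hpx] at ht
    exact ht (hle (Submodule.mem_colon_singleton.2 hta))
  by_contra hne
  obtain ⟨P, hP, hle⟩ := Ideal.exists_le_maximal ((Ideal.span {f}).colon {a}) fun h => hne (by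
    have h1 : (1 : Γ(X, U.1)) ∈ (Ideal.span {f}).colon {a} := h ▸ Submodule.mem_top
    simpa using Submodule.mem_colon_singleton.1 h1)
  exact hmax P hP hle

include k in
/-- The restriction of the second divisor to the first is an effective divisor. -/
theorem isEffCartier_comap (hdim : ∀ Z ∈ irreducibleComponents X, topologicalKrullDim ↥Z = (2 : ℕ))
    (hCM : ∀ x : X, LocCoh.IsCohenMacaulayLocalRing (X.presheaf.stalk x)) {IC ID : X.IdealSheafData}
    (hC : BlowUp.IsEffCartierIdeal IC) (hD : BlowUp.IsEffCartierIdeal ID)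
    (hfin : ((IC ⊔ ID).support : Set X).Finite) : BlowUp.IsEffCartierIdeal (ID.comap IC.subschemeι) := by
  intro z
  obtain ⟨U₁, hxU₁, f, -, -, hU₁⟩ := Groth.L22.Ideals.exists_generator hC (IC.subschemeι z)
  obtain ⟨U₂, hxU₂, g, -, -, hU₂⟩ := Groth.L22.Ideals.exists_generator hD (IC.subschemeι z)
  obtain ⟨_, ⟨W, hW, rfl⟩, hxW, hWU⟩ :=
    X.isBasis_affineOpens.exists_subset_of_mem_open (show IC.subschemeι z ∈ ((U₁.1 ⊓ U₂.1 : X.Opens) : Set X) from
      ⟨hxU₁, hxU₂⟩) (U₁.1 ⊓ U₂.1).2
  change X.Opens at W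
  let U : X.affineOpens := ⟨W, hW⟩
  have h₁ : U.1 ≤ U₁.1 := fun y hy => (hWU hy).1
  have h₂ : U.1 ≤ U₂.1 := fun y hy => (hWU hy).2
  obtain ⟨hf, hIC⟩ := hU₁ U h₁
  obtain ⟨hg, hID⟩ := hU₂ U h₂
  set f' := X.presheaf.map (homOfLE h₁).op f
  set g' := X.presheaf.map (homOfLE h₂).op g
  let V : IC.subscheme.affineOpens := ⟨IC.subschemeι ⁻¹ᵁ W, hW.preimage IC.subschemeι⟩
  refine ⟨V, hxW, IC.subschemeι.app W g', ?_, ?_⟩
  · rw [mem_nonZeroDivisors_iff_right]
    intro b hb
    obtain ⟨a, rfl⟩ := IC.subschemeι_app_surjective U b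
    have hker : ∀ y : Γ(X, W), IC.subschemeι.app W y = 0 ↔ y ∈ Ideal.span {f'} := fun y => by
      rw [← hIC, ← IC.ker_subschemeι_app U]; exact RingHom.mem_ker.symm
    refine (hker a).2 (mem_of_mul_mem k hdim hCM hfin hf hIC hID ((hker _).1 ?_))
    rw [map_mul, mul_comm]
    exact hb
  · rw [Groth.L22.Ideals.comap_ideal IC.subschemeι ID U V le_rfl, hID, Ideal.map_span, Set.image_singleton,
      Scheme.Hom.appLE_eq_app]

end Groth.L03.InterLen
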