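import Groth.Agent.L03.InterLen.Cartier
import Groth.Agent.S1604
import Groth.Agent.L19.IdealInvertible
import Groth.Agent.L22.Big.SurfaceBasic
import Groth.Agent.L22.Nef.Bridge
import Groth.Agent.L22.Inter.Fga
import Groth.Agent.L22.Inter.Push
import Groth.Agent.L22.ZeroScheme
import Groth.Agent.L08.Cube.DivSection
import Groth.Agent.L22.CurveDeg.Det.Main
import Groth.Agent.L20.DescLocus.Unit
import Groth.Agent.L07.PrinParts.GrBaseChange
import Groth.Agent.S7648

/-!
The intersection number of two divisors meeting in finitely many points is the length of the intersection.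
-/

set_option autoImplicit false
set_option backward.isDefEq.respectTransparency false
set_option linter.style.haveILetI false
universe u

open CategoryTheory CategoryTheory.Limits AlgebraicGeometry TopologicalSpace

noncomputable section

namespace Groth.L03.InterLen

open Groth.L22.Inter Groth.L22.Big Groth.L03.Euler Groth.L22.Nef
open Groth.L00.Tensor (tensorIso tensorAssoc tensorComm tensorUnitRight tensorUnitLeft)

variable (k : Type u) [Field k] {X : Scheme.{u}} [X.Over (Spec (CommRingCat.of k))]
  [IsProper (X ↘ Spec (CommRingCat.of k))]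

include k in
theorem dim_le (hdim : ∀ Z ∈ irreducibleComponents X, topologicalKrullDim ↥Z = (2 : ℕ)) :
    topologicalKrullDim X ≤ (2 : ℕ) := by
  by_contra h
  have h3 : ((3 : ℕ) : WithBot ℕ∞) ≤ topologicalKrullDim (Set.univ : Set X) := by
    rw [IsHomeomorph.topologicalKrullDim_eq _ (Homeomorph.Set.univ X).isHomeomorph]
    generalize topologicalKrullDim X = t at h ⊢
    induction t using WithBot.recBotCoe with
    | bot => exact absurd bot_le h
    | coe t =>
      induction t using WithTop.recTopCoe with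
      | top => exact le_top
      | coe n =>
        have : ¬ n ≤ 2 := fun hn => h (WithBot.coe_le_coe.2 (Nat.cast_le.2 hn))
        exact WithBot.coe_le_coe.2 (Nat.cast_le.2 (show 3 ≤ n by omega))
  obtain ⟨y, -, hy⟩ := Groth.L03.Euler.exists_point_dim_closure_ge isClosed_univ h3
  obtain ⟨a, b, ha, -, hab⟩ := Groth.L00.EquidimFlat.point_data' k (X ↘ Spec (CommRingCat.of k)) _ hdim y
  obtain ⟨n, hn, hnt⟩ := Groth.L07.DimToolkit.exists_fdim_rtrdeg (X ↘ Spec (CommRingCat.of k)) y
  rw [Groth.L00.EquidimFlat.fdim_qX k] at hn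
  obtain rfl : n = a := by exact_mod_cast hnt.symm.trans ha
  rw [hn] at hy
  have h2 : (2 : ℕ) = n + b := by exact_mod_cast hab
  have h4 : 3 ≤ n := by exact_mod_cast hy
  omega

omit [IsProper (X ↘ Spec (CommRingCat.of k))] in
/-- The ideal of the intersection of two closed subschemes. -/
theorem map_comap_subscheme (I J : X.IdealSheafData) : (J.comap I.subschemeι).map I.subschemeι = I ⊔ J := by
  refine Scheme.IdealSheafData.ext (funext fun U => ?_)
  rw [Scheme.IdealSheafData.ideal_map_of_isAffineHom,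
    Groth.L22.Ideals.comap_ideal I.subschemeι J U ⟨_, U.2.preimage I.subschemeι⟩ le_rfl, Scheme.Hom.appLE_eq_app,
    Ideal.comap_map_of_surjective _ (I.subschemeι_app_surjective U), ← RingHom.ker_eq_comap_bot,
    I.ker_subschemeι_app, Scheme.IdealSheafData.ideal_sup, Pi.sup_apply, sup_comm]

omit [X.Over (Spec (CommRingCat.of k))] [IsProper (X ↘ Spec (CommRingCat.of k))] in
/-- An epimorphism of invertible modules is an isomorphism. -/
theorem isIso_of_epi_invertible {Z : Scheme.{u}} {A B : Z.Modules} (φ : A ⟶ B) [Epi φ]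
    (hA : PicF.IsInvertible A) (hB : PicF.IsInvertible B) : IsIso φ := by
  haveI : Mono φ := by
    refine (Groth.L21.Mod.mono_iff_stalk_injective φ).2 fun z => ?_
    obtain ⟨a, ha⟩ := Groth.L21.RR.exists_frame_stalk hA z
    obtain ⟨b, hb⟩ := Groth.L21.RR.exists_frame_stalk hB z
    obtain ⟨r, hr⟩ := hb.2 (Groth.L21.RR.st φ z a)
    have hsurj := (Groth.L21.Mod.epi_iff_stalk_surjective φ).1 inferInstance z
    obtain ⟨v, hv⟩ := hsurj b
    obtain ⟨c, rfl⟩ := ha.2 v
    have hφc : Groth.L21.RR.st φ z (c • a) = b := hv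
    have hcr : c * r = 1 := hb.1 (by
      show (c * r) • b = (1 : Z.presheaf.stalk z) • b
      rw [mul_smul, one_smul, show r • b = Groth.L21.RR.st φ z a from hr, ← map_smul, hφc])
    intro v w hvw
    obtain ⟨x, rfl⟩ := ha.2 v
    obtain ⟨y, rfl⟩ := ha.2 w
    have h1 : Groth.L21.RR.st φ z (x • a) = Groth.L21.RR.st φ z (y • a) := hvw
    rw [map_smul, map_smul, ← show r • b = Groth.L21.RR.st φ z a from hr, ← mul_smul, ← mul_smul] at h1
    have h2 : x * r = y * r := hb.1 h1
    have hru : IsUnit r := IsUnit.of_mul_eq_one (a := r) c (by rw [mul_comm, hcr])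
    rw [hru.mul_right_cancel h2]
  exact isIso_of_mono_of_epi φ

/-- Intersection number of two divisors meeting in finitely many points. -/
theorem intNum_eq_length (hdim : ∀ Z ∈ irreducibleComponents X, topologicalKrullDim ↥Z = (2 : ℕ))
    (hCM : ∀ x : X, LocCoh.IsCohenMacaulayLocalRing (X.presheaf.stalk x)) {IC ID : X.IdealSheafData}
    (hC : BlowUp.IsEffCartierIdeal IC) (hD : BlowUp.IsEffCartierIdeal ID)
    (hfin : ((IC ⊔ ID).support : Set X).Finite) :
    FGA.intNum k X 2 ![ClSub.idealMod IC, ClSub.idealMod ID] (Coh.structureModule X) =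
      (Module.finrank k (Coh.HH X (ClSub.quotMod (IC ⊔ ID)) 0) : ℤ) := by
  haveI := Groth.L21.RR.isNoetherian_of_proper (X := X) k
  haveI : X.IsSeparated := ⟨by rw [← terminal.comp_from (X ↘ Spec (CommRingCat.of k))]; infer_instance⟩
  have hd := dim_le k hdim
  have hCi := (Groth.Agent.L19.IdealInvertible.isEffCartier_iff IC).2 hC
  have hDi := (Groth.Agent.L19.IdealInvertible.isEffCartier_iff ID).2 hD
  -- the restriction to the first divisor
  let i := IC.subschemeι
  letI : IC.subscheme.Over (Spec (CommRingCat.of k)) := ⟨i ≫ (X ↘ Spec (CommRingCat.of k))⟩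
  haveI : IsProper (IC.subscheme ↘ Spec (CommRingCat.of k)) :=
    inferInstanceAs (IsProper (i ≫ (X ↘ Spec (CommRingCat.of k))))
  haveI := Groth.L21.RR.isNoetherian_of_proper (X := IC.subscheme) k
  set D' := ID.comap i
  have hD' : BlowUp.IsEffCartierIdeal D' := isEffCartier_comap k hdim hCM hC hD hfin
  have hdC : topologicalKrullDim IC.subscheme ≤ (1 : ℕ) := by
    refine (le_of_eq ?_).trans (Groth.Agent.S7648.dim_support_le (D := IC) hC (e := 1) hd)
    rw [← Scheme.IdealSheafData.range_subschemeι]
    exact (Groth.L22.SchemeDim.topologicalKrullDim_eq_of_isEmbedding i.isEmbedding rfl).symm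
  -- the inverse of the restricted ideal
  have hD'i := (Groth.Agent.L19.IdealInvertible.isEffCartier_iff D').2 hD'
  obtain ⟨N, -, hN, ⟨eN⟩, -⟩ := Groth.L08.Cube.exists_section_of_effCartier D' hD'
  obtain ⟨-, hdeg⟩ := Groth.Agent.S1604.result k IC.subscheme (hdC.trans_eq Nat.cast_one) D' hD' N hN
    ⟨tensorComm _ _ ≪≫ eN⟩ 1 (ClSub.idealMod D')
    (Groth.L22.CurveDeg.Det.isFinLocFreeOfRank_one_of_isInvertible hD'i)
  rw [Groth.L21.RR.deg_congr k (tensorComm _ _ ≪≫ tensorComm _ _ ≪≫ eN)] at hdeg
  simp only [Curv2.deg, Nat.cast_one, one_mul, sub_self] at hdeg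
  -- the pullback of the second ideal
  obtain ⟨α, hα, hαepi, -⟩ := Groth.L07.PrinParts.exists_idealMap i ID D' rfl
  haveI := hαepi
  haveI : IsIso α := isIso_of_epi_invertible α (Groth.L18.Ample.isInvertible_pullback i hDi) hD'i
  -- intersection number as a degree
  have hOc := Groth.L16.CohClosedPush.isCoh_structure (X := X)
  have hint : (FGA.intNum k X 2 ![ClSub.idealMod IC, ClSub.idealMod ID] (Coh.structureModule X) : ℚ) =
      ii k (ClSub.idealMod IC) (ClSub.idealMod ID) := by
    rw [intNum_eq k hd, ii_vec]; ring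
  have h := altT_map k (L := fun _ : Fin 1 => ClSub.idealMod ID) (fun _ => hDi)
    (Groth.L18.Ample.isCoh_of_isInvertible hCi) hOc (ClSub.idealModι IC)
  haveI : Mono (ClSub.idealModι IC) := inferInstanceAs (Mono (kernel.ι _))
  have hk0 : altT k (fun _ : Fin 1 => ClSub.idealMod ID) (kernel (ClSub.idealModι IC)) = 0 := by
    rw [altT, twEuler_of_isZero k (fun _ => hDi) (isZero_kernel_of_mono _), map_zero]
  have hS := Groth.L21.RR.shortExact_idealSeq IC
  haveI : Epi (ClSub.toSubscheme IC) := hS.epi_g
  have e : cokernel (ClSub.idealModι IC) ≅ ClSub.quotMod IC :=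
    IsColimit.coconePointUniqueUpToIso (cokernelIsCokernel _) hS.gIsCokernel
  have hq : altT k (fun _ : Fin 1 => ClSub.idealMod ID) (ClSub.quotMod IC) =
      altT k (fun _ : Fin 1 => ClSub.idealMod D') (Coh.structureModule IC.subscheme) := by
    have h1 : altT k (fun _ : Fin 1 => ClSub.idealMod ID) (ClSub.quotMod IC) =
        altT k (fun _ : Fin 1 => (Scheme.Modules.pullback i).obj (ClSub.idealMod ID))
          (Coh.structureModule IC.subscheme) :=
      congrArg alt (funext fun n => twEuler_push k i rfl (fun _ => hDi) _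
        (Groth.L16.CohClosedPush.isCoh_structure).1 n)
    rw [h1]
    exact altT_congr k (fun _ => ⟨asIso α⟩) _
  rw [hk0, altT_iso k _ e, hq] at h
  have hq' : altT k (fun _ : Fin 1 => ClSub.idealMod D') (Coh.structureModule IC.subscheme) =
      ((Curv2.euler k IC.subscheme (ClSub.idealMod D') -
        Curv2.euler k IC.subscheme (Coh.structureModule IC.subscheme) : ℤ) : ℚ) := by
    rw [altT_one, Groth.L21.RR.euler_congr k (tensorUnitLeft (ClSub.idealMod D'))]
  rw [hq'] at h
  have hii : ii k (ClSub.idealMod IC) (ClSub.idealMod ID) =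
      altT k (fun _ : Fin 1 => ClSub.idealMod ID) (ClSub.idealMod IC) -
        altT k (fun _ : Fin 1 => ClSub.idealMod ID) (Coh.structureModule X) := by
    rw [ii, altT_cons, altT_iso k _ (tensorUnitLeft _)]
  -- sections of the intersection
  let j := D'.subschemeι ≫ i
  letI : D'.subscheme.Over (Spec (CommRingCat.of k)) := ⟨j ≫ (X ↘ Spec (CommRingCat.of k))⟩
  have hker : j.ker = IC ⊔ ID := map_comap_subscheme IC ID
  let J := IC ⊔ ID
  letI : J.subscheme.Over (Spec (CommRingCat.of k)) := ⟨J.subschemeι ≫ (X ↘ Spec (CommRingCat.of k))⟩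
  have hk : J.subschemeι.ker = j.ker := by rw [Scheme.IdealSheafData.ker_subschemeι, hker]
  haveI := IsClosedImmersion.isIso_lift J.subschemeι j hk
  let θ := IsClosedImmersion.lift J.subschemeι j hk.le
  have hθ : θ ≫ J.subschemeι = j := IsClosedImmersion.lift_fac _ _ _
  haveI : IsLocallyNoetherian J.subscheme := LocallyOfFiniteType.isLocallyNoetherian J.subschemeι
  haveI : IsLocallyNoetherian D'.subscheme := LocallyOfFiniteType.isLocallyNoetherian D'.subschemeι
  haveI : IC.subscheme.IsSeparated := ⟨by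
    rw [← terminal.comp_from (IC.subscheme ↘ Spec (CommRingCat.of k))]; infer_instance⟩
  haveI : J.subscheme.IsSeparated := ⟨by rw [← terminal.comp_from J.subschemeι]; infer_instance⟩
  obtain ⟨e₁⟩ := Groth.L03.Euler.exists_HH_push_linearEquiv (k := k) J.subschemeι (Coh.structureModule _)
    (Groth.L16.CohClosedPush.isCoh_structure (X := J.subscheme)).1 rfl 0
  obtain ⟨e₂⟩ := Groth.L03.Euler.exists_HH_push_linearEquiv (k := k) D'.subschemeι (Coh.structureModule _)
    (Groth.L16.CohClosedPush.isCoh_structure (X := D'.subscheme)).1 (Category.assoc _ _ _).symm 0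
  obtain ⟨e₃⟩ := Groth.L03.Euler.exists_HH_push_linearEquiv (k := k) θ (Coh.structureModule _)
    (Groth.L16.CohClosedPush.isCoh_structure (X := D'.subscheme)).1 (by
      show θ ≫ J.subschemeι ≫ _ = j ≫ _
      rw [← Category.assoc, hθ]) 0
  have hlen : Module.finrank k (Coh.HH X (ClSub.quotMod J) 0) =
      Module.finrank k (Coh.HH IC.subscheme (ClSub.quotMod D') 0) := by
    rw [← e₁.finrank_eq, ← e₂.finrank_eq, e₃.finrank_eq]
    haveI := Groth.L20.DescLocus.isIso_unitToPush θ (fun U => inferInstance)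
    exact finrank_HH_of_iso (k := k) (asIso (ClSub.unitToPush θ)) 0
  show _ = (Module.finrank k (Coh.HH X (ClSub.quotMod J) 0) : ℤ)
  rw [hlen]
  have key : (FGA.intNum k X 2 ![ClSub.idealMod IC, ClSub.idealMod ID] (Coh.structureModule X) : ℚ) =
      (Module.finrank k (Coh.HH IC.subscheme (ClSub.quotMod D') 0) : ℤ) := by
    rw [hint, hii]
    have hdeg' := congrArg (Int.cast : ℤ → ℚ) hdeg
    push_cast at hdeg' h ⊢
    linarith
  exact_mod_cast key

end Groth.L03.InterLen
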