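import Groth.Prelude.Def_CAlg
import Groth.Agent.L04.CMBasic
import Mathlib.RingTheory.LocalProperties.Basic
import Mathlib.RingTheory.Ideal.AssociatedPrime.Basic

/-!
Regular sequences of length two in Cohen-Macaulay local rings of dimension two.
-/

set_option autoImplicit false
set_option linter.style.haveILetI false
universe u

open IsLocalRing RingTheory.Sequence

namespace Groth.L03.InterLen

variable {R : Type u} [CommRing R]

/-- In a Cohen-Macaulay local ring of dimension two, a system of parameters `f, g` with `f` regular is a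
regular sequence. -/
theorem dvd_of_mul_dvd [LocCoh.IsCohenMacaulayLocalRing R] (hdim : ringKrullDim R = (2 : ℕ)) {f g : R}
    (hf : f ∈ nonZeroDivisors R) (hfm : f ∈ maximalIdeal R)
    (hmin : ∀ p : Ideal R, p.IsPrime → f ∈ p → g ∈ p → p = maximalIdeal R)
    {a : R} (h : f ∣ g * a) : f ∣ a := by
  by_contra hfa
  have hreg : IsSMulRegular R f := fun x y hxy => (mul_cancel_left_mem_nonZeroDivisors hf).1 hxy
  have hwr : IsWeaklyRegular R [f] := (isWeaklyRegular_cons_iff _ _ _).2 ⟨hreg, IsWeaklyRegular.nil _ _⟩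
  have hmem : ∀ r ∈ [f], r ∈ maximalIdeal R := by simpa using hfm
  have hCM : LocCoh.IsCohenMacaulayModule R R := LocCoh.IsCohenMacaulayLocalRing.supportDim_eq_depth
  haveI : Nontrivial R := IsLocalRing.toNontrivial
  have hQ := Groth.L04.isCohenMacaulayModule_quotient_ofList hCM hwr hmem
  have hd := Groth.L04.supportDim_quotient_ofList_add (M := R) hwr hmem
  rw [Module.supportDim_self_eq_ringKrullDim, hdim] at hd
  set Q := R ⧸ Ideal.ofList [f] • (⊤ : Submodule R R)
  have hsub : Ideal.ofList [f] • (⊤ : Submodule R R) = Ideal.span {f} := by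
    rw [Ideal.ofList_singleton, smul_eq_mul, Ideal.mul_top]
  have hzero : ∀ x : R, (Submodule.Quotient.mk x : Q) = 0 ↔ f ∣ x := fun x => by
    rw [Submodule.Quotient.mk_eq_zero, hsub, Ideal.mem_span_singleton]

  obtain ⟨p, hp, hgp⟩ : ∃ p ∈ associatedPrimes R Q, g ∈ p := by
    have h1 : g ∈ {r : R | ∃ x : Q, x ≠ 0 ∧ r • x = 0} :=
      ⟨Submodule.Quotient.mk a, fun h0 => hfa ((hzero a).1 h0),
        by rw [← Submodule.Quotient.mk_smul, hzero]; exact h⟩
    rw [← biUnion_associatedPrimes_eq_zero_divisors R Q] at h1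
    simpa using h1
  have hfp : f ∈ p := by
    obtain ⟨x, hx⟩ : ∃ x : Q, p = (⊥ : Submodule R Q).colon {x} := (isAssociatedPrime_iff.1 hp).2
    rw [hx, Submodule.mem_colon_singleton, Submodule.mem_bot]
    induction x using Submodule.Quotient.induction_on with
    | H y => rw [← Submodule.Quotient.mk_smul, hzero]; exact Dvd.intro y rfl
  have hpm := hmin p (IsAssociatedPrime.isPrime hp) hfp hgp
  have hdp := Groth.L04.ringKrullDim_quotient_eq_supportDim_of_isCM hQ hp
  rw [hpm] at hdp
  have h0 : ringKrullDim (R ⧸ maximalIdeal R) = 0 :=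
    ringKrullDim_eq_zero_of_isField ((Ideal.Quotient.maximal_ideal_iff_isField_quotient _).1 inferInstance)
  rw [h0] at hdp
  rw [← hdp, List.length_singleton, zero_add] at hd
  exact absurd hd (by norm_cast)

end Groth.L03.InterLen
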